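import Groth.Agent.Lib.TensorGen.Basic
import Groth.Agent.Lib.OX.PullbackTensor
import Groth.Agent.Lib.K0Sub.KerUnit
import Groth.Agent.Lib.K0Sub.PushExact
import Groth.Agent.Lib.Jets.ZeroIdeal
import Groth.Agent.Lib.RegTilde27.Basic
import Groth.Agent.Lib.LocalHilb26.ModAux
import Groth.Agent.Lib.AssPts.Points
import Mathlib.RingTheory.Ideal.AssociatedPrime.Basic

/-!
# A section regular on a module
-/

set_option autoImplicit false
set_option linter.style.haveILetI false
set_option backward.isDefEq.respectTransparency false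
set_option maxHeartbeats 1000000

universe u

open CategoryTheory CategoryTheory.Limits AlgebraicGeometry TopologicalSpace Opposite MonoidalCategory
open GrothLib.InvExt (mres IsGen)
open GrothLib.VA (tm)

noncomputable section

namespace GrothLib.RegSecEuler20

variable {X : Scheme.{u}}

theorem tm_natural₂ (E : X.Modules) {B B' : X.Modules} (b : B ⟶ B') (U : X.Opens) (a : Γ(E, U)) (n : Γ(B, U)) :
    (((DCoh.tensorBi (X := X)).obj E).map b).app U (tm a n) = tm a (b.app U n) := by
  have h := OX.tmulSec_natural (𝟙 E) b U a n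
  rw [CategoryTheory.Functor.map_id, id_tensorHom] at h
  exact h

/-- An affine neighbourhood inside an open with a generator of an invertible module. -/
theorem exists_affine_gen {L : X.Modules} (hL : PicF.IsInvertible L) {U : X.Opens} {x : X} (hx : x ∈ U) :
    ∃ (W : X.affineOpens) (e : Γ(L, W.1)), x ∈ W.1 ∧ W.1 ≤ U ∧ IsGen L W.1 e := by
  obtain ⟨_, ⟨⟨W, e, he⟩, rfl⟩, hxW, hWU⟩ := Opens.isBasis_iff_nbhd.1 (TensorGen.isBasis_gen L hL) hx
  exact ⟨W, e, hxW, hWU, he⟩

/-- An equation of a zero scheme avoiding the associated points is regular on sections. -/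
theorem eq_zero_of_smul [IsLocallyNoetherian X] (F : X.Modules) [F.IsQuasicoherent] (I : X.IdealSheafData)
    (hreg : ∀ x, Curv2.IsAssPoint F x → x ∉ I.support) (W : X.affineOpens) {c : Γ(X, W.1)}
    (hc : I.ideal W = Ideal.span {c}) {a : Γ(F, W.1)} (ha : c • a = 0) : a = 0 := by
  haveI := IsLocallyNoetherian.component_noetherian W
  by_contra h0
  have hmem : c ∈ ⋃ p ∈ associatedPrimes Γ(X, W.1) Γ(F, W.1), (p : Set Γ(X, W.1)) := by
    rw [biUnion_associatedPrimes_eq_zero_divisors]
    exact ⟨a, h0, ha⟩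
  simp only [Set.mem_iUnion] at hmem
  obtain ⟨p, hp, hcp⟩ := hmem
  obtain ⟨x, hx, rfl⟩ := AssPts.exists_point W.2 p hp.1
  refine hreg x ((AssPts.ass_iff F W.2 hx).2 hp) ?_
  rw [Scheme.IdealSheafData.mem_support_iff_of_mem hx, hc]
  erw [Scheme.zeroLocus_span, Scheme.mem_zeroLocus_iff]
  simp only [Set.mem_singleton_iff, forall_eq]
  intro hxc
  exact (WeakAss.notMem_primeAt_iff (hx := hx)).2 hxc hcp

variable {L : X.Modules} (s : Coh.structureModule X ⟶ L) (F : X.Modules)

/-- Multiplication by a section. -/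
def mulSec : ((DCoh.tensorBi (X := X)).obj F).obj (Coh.structureModule X) ⟶ ((DCoh.tensorBi (X := X)).obj F).obj L :=
  ((DCoh.tensorBi (X := X)).obj F).map s

theorem mulSec_app (W : X.Opens) (a : Γ(F, W)) {e : Γ(L, W)} {c : Γ(X, W)}
    (hc : (show Γ(L, W) from PicF2.secVal L s W) = c • e) :
    (mulSec s F).app W (tm a (FinCov.one X W)) = c • tm a e := by
  refine (tm_natural₂ F s W a (FinCov.one X W)).trans ?_
  rw [show s.app W (FinCov.one X W) = c • e from hc, VA.tm_smul_right]

/-- A regular section gives a short exact sequence. -/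
theorem shortExact [IsLocallyNoetherian X] (hL : PicF.IsInvertible L) (hF : Coh.IsCoh F)
    (hreg : ∀ x, Curv2.IsAssPoint F x → x ∉ (PicF2.zeroScheme L s).support) :
    ∃ w : mulSec s F ≫ K0Sub.unitApp (PicF2.zeroScheme L s).subschemeι (CohB1.tensorMod F L) = 0,
      (ShortComplex.mk (mulSec s F) (K0Sub.unitApp (PicF2.zeroScheme L s).subschemeι (CohB1.tensorMod F L)) w).ShortExact := by
  haveI := hF.1
  haveI hFL : (CohB1.tensorMod F L).IsQuasicoherent :=
    VA.isQCoh_tensor hF.1 (InvExt.isQuasicoherent_of_isInvertible hL)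
  let Z := PicF2.zeroScheme L s
  let η := K0Sub.unitApp Z.subschemeι (CohB1.tensorMod F L)
  have hkey : ∀ (W : X.affineOpens) (e : Γ(L, W.1)), IsGen L W.1 e →
      ∃ c : Γ(X, W.1), Z.ideal W = Ideal.span {c} ∧
        (∀ t : Γ(CohB1.tensorMod F (Coh.structureModule X), W.1), ∃ a : Γ(F, W.1),
          t = tm a (FinCov.one X W.1) ∧ (mulSec s F).app W.1 t = c • tm a e) ∧
        (∀ a : Γ(F, W.1), (mulSec s F).app W.1 (tm a (FinCov.one X W.1)) = c • tm a e) ∧
        ∀ m : Γ(CohB1.tensorMod F L, W.1), η.app W.1 m = 0 ↔ ∃ a : Γ(F, W.1), m = c • tm a e := by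
    intro W e he
    obtain ⟨c, hc⟩ := he.exists_smul_eq le_rfl (show Γ(L, W.1) from PicF2.secVal L s W.1)
    rw [InvExt.mres_self] at hc
    have hI : Z.ideal W = Ideal.span {c} := Jets.zeroScheme_ideal_gen hL s W he hc
    refine ⟨c, hI, fun t => ?_, fun a => mulSec_app s F W.1 a hc, fun m => ?_⟩
    · obtain ⟨a, rfl⟩ := (TensorGen.bijective_tm F (Coh.structureModule X) (TensorGen.isGen_one W.1)).2 t
      exact ⟨a, rfl, mulSec_app s F W.1 a hc⟩
    · refine ((K0Sub.app_unit_surjective_and_ker Z.subschemeι _ W).2 m).trans ?_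
      rw [Z.ker_subschemeι, hI, Submodule.ideal_span_singleton_smul, Submodule.mem_smul_pointwise_iff_exists]
      constructor
      · rintro ⟨n, -, rfl⟩
        obtain ⟨a, rfl⟩ := (TensorGen.bijective_tm F L he).2 n
        exact ⟨a, rfl⟩
      · rintro ⟨a, rfl⟩
        exact ⟨_, Submodule.mem_top, rfl⟩
  have w : mulSec s F ≫ η = 0 := by
    refine AffHom.hom_ext_basis (TensorGen.isBasis_gen L hL) fun W t => ?_
    obtain ⟨e, he⟩ := W.2
    obtain ⟨c, -, hsrc, -, hker⟩ := hkey W.1 e he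
    obtain ⟨a, -, ha⟩ := hsrc t
    exact ((hker _).2 ⟨a, ha⟩)
  refine ⟨w, RegTilde27.shortExact_of_local _ (fun U => (injective_iff_map_eq_zero _).2 fun t ht => ?_)
    (fun U σ hσ y hy => ?_) (fun U σ y hy => ?_)⟩
  · choose W e hyW hWU he using fun y : U => exists_affine_gen hL y.2
    refine Ample.meq_of_cover (CohB1.tensorMod F (Coh.structureModule X)) (fun y : U => (W y).1) hWU
      (fun y hy => Opens.mem_iSup.2 ⟨⟨y, hy⟩, hyW ⟨y, hy⟩⟩) fun y => ?_
    refine Eq.trans ?_ (map_zero _).symm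
    obtain ⟨c, hI, hsrc, -, -⟩ := hkey (W y) (e y) (he y)
    obtain ⟨a, hat, ha⟩ := hsrc (mres _ (hWU y) t)
    have h1 : tm (c • a) (e y) = tm (0 : Γ(F, (W y).1)) (e y) := by
      rw [VA.tm_smul_left, ← ha]
      refine ((Ample.app_mres (mulSec s F) (hWU y) t).trans ((congrArg _ ht).trans (map_zero _))).trans ?_
      exact ((TensorGen.tmEquiv F L (he y)).map_zero).symm
    have ha0 := eq_zero_of_smul F Z hreg (W y) hI (TensorGen.injective_tm F L (he y) h1)
    rw [hat, ha0]
    exact (TensorGen.tmEquiv F (Coh.structureModule X) (TensorGen.isGen_one (W y).1)).map_zero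
  · obtain ⟨W, e, hyW, hWU, he⟩ := exists_affine_gen hL hy
    obtain ⟨c, -, -, hmul, hker⟩ := hkey W e he
    obtain ⟨a, ha⟩ := (hker (mres _ hWU σ)).1
      ((Ample.app_mres η hWU σ).trans ((congrArg _ hσ).trans (map_zero _)))
    exact ⟨W.1, hWU, hyW, tm a (FinCov.one X W.1), (hmul a).trans ha.symm⟩
  · obtain ⟨W, e, hyW, hWU, -⟩ := exists_affine_gen hL hy
    obtain ⟨τ, hτ⟩ := (K0Sub.app_unit_surjective_and_ker Z.subschemeι (CohB1.tensorMod F L) W).1
      (mres _ hWU σ)
    exact ⟨W.1, hWU, hyW, τ, hτ⟩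

/-- Restricting twice is restricting to the intersection. -/
theorem nonempty_pushPull_iso {A B C : X.IdealSheafData} (hC : C = A ⊔ B) (E : X.Modules) [E.IsQuasicoherent] :
    Nonempty ((Scheme.Modules.pushforward B.subschemeι).obj ((Scheme.Modules.pullback B.subschemeι).obj
        ((Scheme.Modules.pushforward A.subschemeι).obj ((Scheme.Modules.pullback A.subschemeι).obj E))) ≅
      (Scheme.Modules.pushforward C.subschemeι).obj ((Scheme.Modules.pullback C.subschemeι).obj E)) := by
  let FA := (Scheme.Modules.pushforward A.subschemeι).obj ((Scheme.Modules.pullback A.subschemeι).obj E)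
  haveI : FA.IsQuasicoherent := K0Sub.isQuasicoherent_pushPull A.subschemeι E
  let q := K0Sub.unitApp A.subschemeι E ≫ K0Sub.unitApp B.subschemeι FA
  let η := K0Sub.unitApp C.subschemeι E
  have hA := fun U => K0Sub.app_unit_surjective_and_ker A.subschemeι E U
  have hB := fun U => K0Sub.app_unit_surjective_and_ker B.subschemeι FA U
  have hCs := fun U => K0Sub.app_unit_surjective_and_ker C.subschemeι E U
  have hq : ∀ U : X.affineOpens, Function.Surjective (q.app U.1) := fun U y => by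
    obtain ⟨z, rfl⟩ := (hB U).1 y
    obtain ⟨m, rfl⟩ := (hA U).1 z
    exact ⟨m, rfl⟩
  have hker : ∀ (U : X.affineOpens) (m : Γ(E, U.1)), q.app U.1 m = 0 ↔ η.app U.1 m = 0 := by
    intro U m
    rw [(hCs U).2 m, Scheme.IdealSheafData.ker_subschemeι, hC,
      show (A ⊔ B).ideal U = A.ideal U ⊔ B.ideal U from rfl, Submodule.sup_smul]
    refine ((hB U).2 _).trans ?_
    rw [Scheme.IdealSheafData.ker_subschemeι]
    let l : Γ(E, U.1) →ₗ[Γ(X, U.1)] Γ(FA, U.1) :=
      { toFun := fun m => (K0Sub.unitApp A.subschemeι E).app U.1 m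
        map_add' := fun a b => map_add _ a b
        map_smul' := fun r a => Scheme.Modules.Hom.app_smul _ r a }
    have htop : (⊤ : Submodule Γ(X, U.1) Γ(FA, U.1)) = Submodule.map l ⊤ := by
      refine (Submodule.eq_top_iff'.2 fun y => ?_).symm
      obtain ⟨x, hx⟩ := (hA U).1 y
      exact ⟨x, trivial, hx⟩
    rw [htop, ← Submodule.map_smul'']
    change l m ∈ Submodule.map l (B.ideal U • ⊤) ↔ _
    constructor
    · rintro ⟨n, hn, hnm⟩
      have h0 : m - n ∈ A.ideal U • (⊤ : Submodule Γ(X, U.1) Γ(E, U.1)) := by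
        have h1 := ((hA U).2 (m - n)).1 (by
          show l (m - n) = 0
          rw [map_sub, hnm, sub_self])
        rwa [Scheme.IdealSheafData.ker_subschemeι] at h1
      rw [show m = (m - n) + n by abel]
      exact Submodule.add_mem_sup h0 hn
    · intro hm
      obtain ⟨p, hp, n, hn, rfl⟩ := Submodule.mem_sup.1 hm
      refine ⟨n, hn, ?_⟩
      have h1 : l p = 0 := ((hA U).2 p).2 (by rwa [Scheme.IdealSheafData.ker_subschemeι])
      rw [map_add, h1, zero_add]
  let GB := (Scheme.Modules.pushforward B.subschemeι).obj ((Scheme.Modules.pullback B.subschemeι).obj FA)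
  let GC := (Scheme.Modules.pushforward C.subschemeι).obj ((Scheme.Modules.pullback C.subschemeι).obj E)
  have mk : ∀ {G G' : X.Modules} (p : E ⟶ G) (p' : E ⟶ G'), (∀ U : X.affineOpens, Function.Surjective (p.app U.1)) →
      (∀ (U : X.affineOpens) (m : Γ(E, U.1)), p.app U.1 m = 0 → p'.app U.1 m = 0) →
      ∃ f : G ⟶ G', ∀ (U : X.affineOpens) (m : Γ(E, U.1)), f.app U.1 (p.app U.1 m) = p'.app U.1 m := by
    intro G G' p p' hp hk
    refine LocalHilb26.exists_hom_of_surj (fun U => Γ(E, U.1)) (fun U => p.app U.1) (fun U => p'.app U.1) hp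
      (fun U a b h => sub_eq_zero.1 ?_) (fun U a b => ⟨a + b, map_add _ _ _, map_add _ _ _⟩)
      (fun U r a => ⟨r • a, Scheme.Modules.Hom.app_smul _ _ _, Scheme.Modules.Hom.app_smul _ _ _⟩)
      (fun U V h a => ⟨_, LocalHilb26.app_map p h a, LocalHilb26.app_map p' h a⟩)
    rw [← map_sub]
    exact hk U _ (by rw [map_sub, h, sub_self])
  obtain ⟨f, hf⟩ := mk (G := GB) (G' := GC) q η hq (fun U m => (hker U m).1)
  obtain ⟨g, hg⟩ := mk (G := GC) (G' := GB) η q (fun U => (hCs U).1) (fun U m => (hker U m).2)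
  exact ⟨⟨f, g, AffHom.hom_ext fun U y => by
      obtain ⟨m, rfl⟩ := hq U y
      show g.app U.1 (f.app U.1 (q.app U.1 m)) = _
      rw [hf, hg]; rfl, AffHom.hom_ext fun U y => by
      obtain ⟨m, rfl⟩ := (hCs U).1 y
      show f.app U.1 (g.app U.1 (η.app U.1 m)) = _
      rw [hg, hf]; rfl⟩⟩

end GrothLib.RegSecEuler20
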