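import Groth.Agent.Lib.RegSecEuler20.Step
import Groth.Agent.Lib.ProjFormula.Iso
import Groth.Agent.Lib.Snapper.DimLT
import Groth.Agent.Lib.DecSh20.Basic
import Groth.Agent.Lib.QCoh.SupportExact

/-!
# The Euler characteristic of twists along a regular sequence of sections
-/

set_option autoImplicit false
set_option linter.style.haveILetI false
set_option backward.isDefEq.respectTransparency false
set_option maxHeartbeats 1000000
set_option linter.unusedSectionVars false

universe u

open CategoryTheory CategoryTheory.Limits AlgebraicGeometry TopologicalSpace Opposite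
open GrothLib.Snapper (DimLT)

noncomputable section

attribute [local irreducible] Curv2.euler

namespace GrothLib.RegSecEuler20

/-- Summing a triangle of differences. -/
theorem sum_formula : ∀ (d : ℕ) (f : ℕ → ℕ → ℤ), (∀ i < d, ∀ m, f i (m + 1) = f i m + f (i + 1) (m + 1)) →
    (∀ m, f d m = f d 0) →
    ∀ m, f 0 m = ∑ j ∈ Finset.range (d + 1), f j 0 * (Nat.choose (m + j - 1) j : ℤ)
  | 0, f, _, hd, m => by simpa using hd m
  | d + 1, f, hrec, hd, m => by
    have ih := sum_formula d (fun i => f (i + 1)) (fun i hi m => hrec (i + 1) (by omega) m) hd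
    rw [Finset.sum_range_succ']
    simp only [Nat.choose_zero_right, Nat.cast_one, mul_one, Nat.add_succ_sub_one]
    induction m with
    | zero =>
      simp [Nat.choose_succ_self]
    | succ m ihm =>
      rw [hrec 0 (by omega) m, ihm, ih (m + 1), add_right_comm, ← Finset.sum_add_distrib]
      congr 1
      refine Finset.sum_congr rfl fun j _ => ?_
      rw [show m + 1 + j - 1 = m + j by omega, show m + 1 + j = (m + j) + 1 by omega, Nat.choose_succ_succ']
      push_cast
      ring

variable {k : Type u} [Field k] {X : Scheme.{u}} [X.Over (Spec (CommRingCat.of k))]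
  [IsProper (X ↘ Spec (CommRingCat.of k))] {L : X.Modules} (hL : PicF.IsInvertible L)

include k hL in
/-- Restriction to a closed subscheme commutes with a twist. -/
theorem nonempty_pushPull_tensor {Z : Scheme.{u}} (j : Z ⟶ X) [IsClosedImmersion j] (F : X.Modules) :
    Nonempty ((Scheme.Modules.pushforward j).obj ((Scheme.Modules.pullback j).obj (CohB1.tensorMod F L)) ≅
      CohB1.tensorMod ((Scheme.Modules.pushforward j).obj ((Scheme.Modules.pullback j).obj F)) L) := by
  haveI := ProjFormula.isIso_projHom j (Euler.isFinLocFree_of_isInvertible hL) ((Scheme.Modules.pullback j).obj F)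
  let e1 : (Scheme.Modules.pullback j).obj (CohB1.tensorMod F L) ≅
      ((DCoh.tensorBi (X := Z)).obj ((Scheme.Modules.pullback j).obj L)).obj ((Scheme.Modules.pullback j).obj F) :=
    (Scheme.Modules.pullback j).mapIso (GrTilde.tensorModComm F L) ≪≫ OX.pullTensorIso j L F
  exact ⟨(Scheme.Modules.pushforward j).mapIso e1 ≪≫
    (asIso (ProjFormula.projHom j L ((Scheme.Modules.pullback j).obj F))).symm ≪≫ GrTilde.tensorModComm _ _⟩

include hL in
/-- One regular section shifts the Euler characteristic. -/
theorem euler_step {F : X.Modules} (hF : Coh.IsCoh F) (s : Coh.structureModule X ⟶ L)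
    (hreg : ∀ x, Curv2.IsAssPoint F x → x ∉ (PicF2.zeroScheme L s).support) (m : ℕ) :
    Curv2.euler k X (CohB1.tensorMod F (CohB1.tensorPow L (m + 1))) =
      Curv2.euler k X (CohB1.tensorMod F (CohB1.tensorPow L m)) +
        Curv2.euler k X (CohB1.tensorMod ((Scheme.Modules.pushforward (PicF2.zeroScheme L s).subschemeι).obj
          ((Scheme.Modules.pullback (PicF2.zeroScheme L s).subschemeι).obj F)) (CohB1.tensorPow L (m + 1))) := by
  haveI := Euler.isNoetherian_of_proper (X := X) k
  let j := (PicF2.zeroScheme L s).subschemeι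
  let P := CohB1.tensorPow L m
  have hPf : FlatMod.IsFinLocFree P := Euler.isFinLocFree_of_isInvertible (Ample.isInvertible_tensorPow hL m)
  have hLf := Euler.isFinLocFree_of_isInvertible hL
  obtain ⟨w, hS⟩ := shortExact s F hL hF hreg
  have hT : ((ShortComplex.mk _ _ w).map (Euler.tF P)).ShortExact :=
    OX.tensor_map_shortExact (OX.flat_of_isFinLocFree hPf) hS
  let F' := (Scheme.Modules.pushforward j).obj ((Scheme.Modules.pullback j).obj F)
  have hF' : Coh.IsCoh F' := K0Sub.isCoh_pushPull j hF
  have hFL : Coh.IsCoh ((Euler.tF L).obj F) := Euler.isCoh_tF hF hLf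
  obtain ⟨ej⟩ := nonempty_pushPull_tensor (k := k) hL j F
  let e0 : ((DCoh.tensorBi (X := X)).obj F).obj (Coh.structureModule X) ≅ F := Euler.tFUnitIso F
  have c1 : Coh.IsCoh ((Euler.tF P).obj (((DCoh.tensorBi (X := X)).obj F).obj (Coh.structureModule X))) :=
    QCoh.isCoh_of_iso ((Euler.tF P).mapIso e0).symm (Euler.isCoh_tF hF hPf)
  have c2 : Coh.IsCoh ((Euler.tF P).obj (((DCoh.tensorBi (X := X)).obj F).obj L)) := Euler.isCoh_tF hFL hPf
  have c3 : Coh.IsCoh ((Euler.tF P).obj ((Scheme.Modules.pushforward j).obj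
      ((Scheme.Modules.pullback j).obj (CohB1.tensorMod F L)))) := Euler.isCoh_tF (K0Sub.isCoh_pushPull j hFL) hPf
  have key := Euler.euler_additive k hT c1 c2 c3
  have a2 : ∀ G : X.Modules, Curv2.euler k X ((Euler.tF P).obj (CohB1.tensorMod G L)) =
      Curv2.euler k X (CohB1.tensorMod G (CohB1.tensorPow L (m + 1))) := fun G =>
    Euler.euler_of_iso k (OX.tensorAssoc G L P ≪≫
      ((DCoh.tensorBi (X := X)).obj G).mapIso (GrTilde.tensorModComm L P))
  have a1 : Curv2.euler k X ((Euler.tF P).obj (((DCoh.tensorBi (X := X)).obj F).obj (Coh.structureModule X))) =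
      Curv2.euler k X (CohB1.tensorMod F (CohB1.tensorPow L m)) := Euler.euler_of_iso k ((Euler.tF P).mapIso e0)
  have a3 := (Euler.euler_of_iso k ((Euler.tF P).mapIso ej)).trans (a2 F')
  exact (a2 F).symm.trans (key.trans (by rw [← a1, ← a3]; rfl))

/-- A regular section drops the dimension of the support. -/
theorem dimLT_step [IsNoetherian X] {F : X.Modules} (hF : Coh.IsCoh F) (I : X.IdealSheafData)
    (hreg : ∀ x, Curv2.IsAssPoint F x → x ∉ I.support) {n : ℕ} (h : DimLT (CohB1.support F) (n + 1)) :
    DimLT (CohB1.support ((Scheme.Modules.pushforward I.subschemeι).obj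
      ((Scheme.Modules.pullback I.subschemeι).obj F))) n := by
  haveI := hF.1
  haveI := K0Sub.isQuasicoherent_pushPull I.subschemeι F
  haveI : Epi (K0Sub.unitApp I.subschemeι F) :=
    K0Sub.epi_of_app_surjective _ fun U => (K0Sub.app_unit_surjective_and_ker I.subschemeι F U).1
  intro l hl
  have h1 : ∀ i, l i ∈ CohB1.support F := fun i => QCoh.support_subset_of_epi (K0Sub.unitApp I.subschemeι F) (hl i)
  have h2 : l.last ∈ I.support := by
    have := QCoh.support_pushforward_subset_range I.subschemeι _ (hl (Fin.last _))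
    rw [Scheme.IdealSheafData.range_subschemeι] at this
    exact this
  obtain ⟨z, hzs, hzl, hne⟩ : ∃ z, z ∈ CohB1.support F ∧ z ⤳ l.last ∧ z ≠ l.last := by
    by_contra hall
    push Not at hall
    refine hreg _ ?_ h2
    rw [WeakAss.isAssPoint_iff_isWeakAssPoint]
    exact WeakAss.isWeakAssPoint_of_maximal (h1 _) hall
  have hlt : l.last < z := lt_of_le_not_ge hzl fun h' => hne (Specializes.antisymm hzl h').eq
  have := h (l.snoc z hlt) fun i => by
    refine Fin.lastCases ?_ (fun i => ?_) i
    · rw [show (l.snoc z hlt) (Fin.last _) = z from RelSeries.last_snoc l z hlt]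
      exact hzs
    · rw [show (l.snoc z hlt) i.castSucc = l i from RelSeries.snoc_castSucc l z hlt i]
      exact h1 i
  simp at this
  omega

include hL in
/-- The Euler characteristic of twists along a regular sequence of sections. -/
theorem euler_formula {E : X.Modules} (hE : Coh.IsCoh E) (d : ℕ)
    (hdim : topologicalKrullDim (CohB1.support E) ≤ (d : WithBot ℕ∞)) (s : Fin d → (Coh.structureModule X ⟶ L))
    (Z : Fin (d + 1) → X.IdealSheafData)
    (hZ : ∀ i : Fin (d + 1), Z i = ⨆ (j : Fin d) (_ : j.val < i.val), PicF2.zeroScheme L (s j))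
    (hreg : ∀ (i : Fin d) (x : X),
      Curv2.IsAssPoint ((Scheme.Modules.pushforward (Z i.castSucc).subschemeι).obj
        ((Scheme.Modules.pullback (Z i.castSucc).subschemeι).obj E)) x → x ∉ (PicF2.zeroScheme L (s i)).support)
    (m : ℕ) :
    Curv2.euler k X (CohB1.tensorMod E (CohB1.tensorPow L m)) =
      ∑ i : Fin (d + 1), Curv2.euler k X ((Scheme.Modules.pushforward (Z i).subschemeι).obj
        ((Scheme.Modules.pullback (Z i).subschemeι).obj E)) * (Nat.choose (m + i.val - 1) i.val : ℤ) := by
  haveI := Euler.isNoetherian_of_proper (X := X) k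
  haveI := hE.1
  let Ei : Fin (d + 1) → X.Modules := fun i => (Scheme.Modules.pushforward (Z i).subschemeι).obj
    ((Scheme.Modules.pullback (Z i).subschemeι).obj E)
  have hcoh : ∀ i, Coh.IsCoh (Ei i) := fun i => K0Sub.isCoh_pushPull _ hE
  -- consecutive restrictions
  have hsucc : ∀ i : Fin d, Nonempty ((Scheme.Modules.pushforward (PicF2.zeroScheme L (s i)).subschemeι).obj
      ((Scheme.Modules.pullback (PicF2.zeroScheme L (s i)).subschemeι).obj (Ei i.castSucc)) ≅ Ei i.succ) := fun i => by
    refine nonempty_pushPull_iso ?_ E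
    rw [hZ, hZ]
    refine le_antisymm (iSup₂_le fun j hj => ?_) (sup_le (iSup₂_le fun j hj => ?_) ?_)
    · rcases Nat.lt_succ_iff_lt_or_eq.1 hj with h | h
      · exact le_sup_of_le_left (le_iSup₂_of_le j h le_rfl)
      · rw [Fin.ext h]
        exact le_sup_right
    · exact le_iSup₂_of_le (f := fun (j : Fin d) (_ : j.val < i.succ.val) => PicF2.zeroScheme L (s j)) j
        (Nat.lt_succ_of_lt hj) le_rfl
    · exact le_iSup₂_of_le (f := fun (j : Fin d) (_ : j.val < i.succ.val) => PicF2.zeroScheme L (s j)) i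
        (Nat.lt_succ_self _) le_rfl
  -- the zeroth restriction
  have h0 : Nonempty (E ≅ Ei 0) := by
    have hZ0 : Z 0 = ⊥ := le_bot_iff.1 (by rw [hZ]; exact iSup₂_le fun j hj => absurd hj (Nat.not_lt_zero _))
    haveI := QCoh.isIso_unit_of_killed (Z 0).subschemeι E (by
      rw [Scheme.IdealSheafData.ker_subschemeι, hZ0]
      intro U a ha v
      rw [show a = 0 by simpa using ha]
      exact zero_smul _ v)
    exact ⟨asIso ((Scheme.Modules.pullbackPushforwardAdjunction (Z 0).subschemeι).unit.app E)⟩
  obtain ⟨e0⟩ := h0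
  -- dimensions
  have hdimLT : ∀ i : Fin (d + 1), DimLT (CohB1.support (Ei i)) (d - i.val + 1) := by
    intro i
    induction i using Fin.induction with
    | zero =>
      rw [Fin.val_zero, Nat.sub_zero, ← QCoh.support_eq_of_iso e0]
      exact Snapper.dimLT_of_dim_le hdim
    | succ i ih =>
      obtain ⟨e⟩ := hsucc i
      rw [← QCoh.support_eq_of_iso e, Fin.val_succ]
      refine dimLT_step (hcoh _) _ (hreg i) ?_
      rw [Fin.val_castSucc] at ih
      rwa [show d - (i.val + 1) + 1 + 1 = d - i.val + 1 by have := i.2; omega]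
  let f : ℕ → ℕ → ℤ := fun i m =>
    if h : i ≤ d then Curv2.euler k X (CohB1.tensorMod (Ei ⟨i, Nat.lt_succ_of_le h⟩) (CohB1.tensorPow L m)) else 0
  have hf : ∀ (i : Fin (d + 1)) (m : ℕ), f i.val m = Curv2.euler k X (CohB1.tensorMod (Ei i) (CohB1.tensorPow L m)) :=
    fun i m => dif_pos (Nat.le_of_lt_succ i.2)
  have hf0 : ∀ i : Fin (d + 1), f i.val 0 = Curv2.euler k X (Ei i) := fun i =>
    (hf i 0).trans (Euler.euler_of_iso k (Euler.tFUnitIso (Ei i)))
  have hrec : ∀ i < d, ∀ m, f i (m + 1) = f i m + f (i + 1) (m + 1) := by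
    intro i hi m
    obtain ⟨e⟩ := hsucc ⟨i, hi⟩
    have h := euler_step (k := k) hL (hcoh (Fin.castSucc ⟨i, hi⟩)) (s ⟨i, hi⟩) (hreg ⟨i, hi⟩) m
    rw [show f i (m + 1) = _ from hf (Fin.castSucc ⟨i, hi⟩) (m + 1), show f i m = _ from hf (Fin.castSucc ⟨i, hi⟩) m,
      show f (i + 1) (m + 1) = _ from hf (Fin.succ ⟨i, hi⟩) (m + 1), h]
    exact congrArg (fun z : ℤ => _ + z)
      (Euler.euler_of_iso k (Ample.LineData.tensorModMapIso e (Iso.refl (CohB1.tensorPow L (m + 1)))))
  have hlast : ∀ m, f d m = f d 0 := by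
    intro m
    have hdl := hdimLT (Fin.last d)
    rw [Fin.val_last, Nat.sub_self] at hdl
    have hcl := QCoh.isClosed_support_of_isCoh (hcoh (Fin.last d))
    have h0' : topologicalKrullDim (CohB1.support (Ei (Fin.last d))) ≤ 0 := by
      exact_mod_cast Snapper.dim_le_of_dimLT hcl hdl
    have hp := fun x hx => Euler.isClosed_singleton_of_dim_le_zero hcl h0' (x := x) hx
    rw [show f d m = _ from hf (Fin.last d) m, show f d 0 = _ from hf0 (Fin.last d)]
    refine (Euler.euler_tF_of_finite_support k (Euler.isFinLocFreeOfRank_one' (Ample.isInvertible_tensorPow hL m))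
      (hcoh _) (Euler.finite_of_closed_points hcl hp) hp).trans ?_
    rw [Nat.cast_one, one_mul]
  have h := sum_formula d f hrec hlast m
  rw [show f 0 m = _ from hf 0 m] at h
  refine (Euler.euler_of_iso k (Ample.LineData.tensorModMapIso e0 (Iso.refl (CohB1.tensorPow L m)))).trans (h.trans ?_)
  rw [Finset.sum_range]
  exact Finset.sum_congr rfl fun i _ => by rw [hf0]

end GrothLib.RegSecEuler20
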